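import Groth.Prelude.Def_DualGr
import Groth.Agent.S2641
import Groth.Agent.CplFib6.GRing
import Groth.Agent.CplFib6.PSRegular
import Groth.Agent.PopescuLib.LocalCompletion
import Groth.Agent.PopescuLib.RegLoc
import Groth.Agent.FlatLoc6.BaseChangeEss
import Groth.Agent.FlatLoc6.RegCM
import Groth.Agent.LC.CanonComplete
import Mathlib

/-!
# A node of zero-divisor thickness cannot be generically smooth
-/

set_option autoImplicit false
set_option linter.style.haveILetI false

universe u

namespace Groth.Agent.NodeNZD6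

open IsLocalRing

/-- At a prime over `p` outside a locus where the base map is smooth, the completion has an integral
fibre over `p`. -/
theorem exists_mul_mem {R B A : Type u} [CommRing R] [IsLocalRing R] [IsNoetherianRing R]
    [IsAdicComplete (maximalIdeal R) R] [CommRing B] [Algebra R B] [Algebra.FiniteType R B]
    [CommRing A] [IsLocalRing A] [Algebra B A] [Algebra R A] [IsScalarTower R B A]
    (Q : Ideal B) [Q.IsPrime] [IsLocalization.AtPrime A Q]
    (p : Ideal R) [p.IsPrime] (q : Ideal (EGA4.Cpl A)) [q.IsPrime]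
    (hq : q.comap (algebraMap R (EGA4.Cpl A)) = p)
    (g : B) (hg : algebraMap A (EGA4.Cpl A) (algebraMap B A g) ∉ q)
    (Bg : Type u) [CommRing Bg] [Algebra B Bg] [IsLocalization.Away g Bg] [Algebra R Bg] [IsScalarTower R B Bg]
    [Algebra.Smooth R Bg] :
    ∀ x y : EGA4.Cpl A, x * y ∈ p.map (algebraMap R (EGA4.Cpl A)) →
      ∃ s ∉ q, s * x ∈ p.map (algebraMap R (EGA4.Cpl A)) ∨ s * y ∈ p.map (algebraMap R (EGA4.Cpl A)) := by
  classical
  haveI : IsNoetherianRing B := Algebra.FiniteType.isNoetherianRing R B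
  haveI : IsNoetherianRing A := IsLocalization.isNoetherianRing Q.primeCompl A inferInstance
  haveI : Algebra.EssFiniteType B A := Algebra.EssFiniteType.of_isLocalization _ Q.primeCompl
  haveI : Algebra.EssFiniteType R A := Algebra.EssFiniteType.comp R B A
  have hA : CAlg.IsGRing A := S2641.isGRing_of_essFiniteType R A (CplFib6.isGRing_of_complete R)
  let G := EGA4.Cpl A
  haveI := LC.Canon.isNoetherianRing_completion (R := A)
  have hAG : CAlg.IsRegularHom A G := PopescuLib.isRegularHom_completion_of_isGRing hA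
  haveI : IsScalarTower B A G := inferInstance
  haveI : IsScalarTower R B G := IsScalarTower.of_algebraMap_eq fun r => by
    rw [IsScalarTower.algebraMap_apply R A G, IsScalarTower.algebraMap_apply R B A,
      ← IsScalarTower.algebraMap_apply B A G]
  have hBG : CAlg.IsRegularHom B G :=
    FlatLoc6.isRegularHom_comp B A G (PopescuLib.isRegularHom_of_isLocalization Q.primeCompl) hAG
  let gG : G := algebraMap B G g
  have hgG : gG ∉ q := by rw [show gG = algebraMap A G (algebraMap B A g) from IsScalarTower.algebraMap_apply B A G g]; exact hg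
  let G' := Localization.Away gG
  letI : Algebra Bg G' := (IsLocalization.Away.lift g (g := algebraMap B G')
    (by rw [IsScalarTower.algebraMap_apply B G G']; exact IsLocalization.Away.algebraMap_isUnit gG)).toAlgebra
  haveI : IsScalarTower B Bg G' := IsScalarTower.of_algebraMap_eq fun b =>
    (IsLocalization.Away.lift_eq g _ b).symm
  haveI : IsScalarTower R Bg G' := IsScalarTower.of_algebraMap_eq fun r => by
    rw [IsScalarTower.algebraMap_apply R B Bg, ← IsScalarTower.algebraMap_apply B Bg G',
      ← IsScalarTower.algebraMap_apply R B G']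
  haveI : IsNoetherianRing G' := IsLocalization.isNoetherianRing (Submonoid.powers gG) G' inferInstance
  haveI : IsNoetherianRing Bg := IsLocalization.isNoetherianRing (Submonoid.powers g) Bg inferInstance
  have h1 : CAlg.IsRegularHom B G' :=
    PopescuLib.isRegularHom_localization_target (Submonoid.powers gG) hBG
  have h2 : CAlg.IsRegularHom Bg G' := PopescuLib.isRegularHom_source_localization (Submonoid.powers g) h1
  haveI : Module.Flat R Bg := inferInstance
  have h3 : CAlg.IsRegularHom R G' :=
    FlatLoc6.isRegularHom_comp R Bg G' (CplFib6.isRegularHom_of_smooth R Bg) h2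
  -- the fibre at `q`
  have hdis : Disjoint (Submonoid.powers gG : Set G) q := by
    rw [Ideal.disjoint_powers_iff_notMem _ (Ideal.IsPrime.isRadical ‹_›)]
    exact hgG
  haveI hq' : (q.map (algebraMap G G')).IsPrime :=
    IsLocalization.isPrime_of_isPrime_disjoint (Submonoid.powers gG) G' q ‹_› hdis
  let q' : Ideal G' := q.map (algebraMap G G')
  have hcq : q'.comap (algebraMap G G') = q :=
    IsLocalization.under_map_of_isPrime_disjoint (Submonoid.powers gG) G' ‹_› hdis
  have hq'p : q'.comap (algebraMap R G') = p := by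
    rw [IsScalarTower.algebraMap_eq R G G', ← Ideal.comap_comap, hcq, hq]
  haveI := FlatLoc6.isRegularRing_of_geometricallyRegular (h3.2 p).2
  obtain ⟨F, hF⟩ := FlatLoc6.exists_fiber_prime p q' hq'p
  haveI : IsRegularLocalRing (Localization.AtPrime F.asIdeal) :=
    IsRegularRing.isRegularLocalRing_localization F.asIdeal
  haveI := RegLoc6.isDomain_of_isRegularLocalRing (Localization.AtPrime F.asIdeal)
  obtain ⟨eF⟩ := FlatLoc6.exists_fibLocEquiv p F.asIdeal
  haveI := eF.symm.toMulEquiv.isDomain
  intro x y hxy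
  let L := Localization.AtPrime q'
  haveI : IsLocalization.AtPrime L q := by
    haveI := IsLocalization.isLocalization_isLocalization_atPrime_isLocalization (Submonoid.powers gG) L q'
    have key : ∀ (q₁ : Ideal G) [q₁.IsPrime], q₁ = q → IsLocalization.AtPrime L q₁ → IsLocalization.AtPrime L q := by
      intro q₁ _ h hL
      subst h
      exact hL
    exact key _ hcq this
  have hFq : F.asIdeal.comap Algebra.TensorProduct.includeRight = q' := hF
  have hcase : ∀ z : G, algebraMap G L z ∈ (p.map (algebraMap R G)).map (algebraMap G L) →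
      ∃ s ∉ q, s * z ∈ p.map (algebraMap R G) := by
    intro z hz
    obtain ⟨⟨⟨a, ha⟩, ⟨s, hs⟩⟩, heq⟩ := (IsLocalization.mem_map_algebraMap_iff q.primeCompl L).1 hz
    rw [← map_mul] at heq
    obtain ⟨⟨c, hc⟩, hc'⟩ := (IsLocalization.eq_iff_exists q.primeCompl L).1 heq
    refine ⟨c * s, Submonoid.mul_mem q.primeCompl hc hs, ?_⟩
    rw [mul_assoc, mul_comm s z]
    exact (show c * (z * s) = c * a from hc') ▸ Ideal.mul_mem_left _ _ ha
  have hJ : (p.map (algebraMap R G)).map (algebraMap G L) = p.map (algebraMap R L) := by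
    rw [Ideal.map_map, ← IsScalarTower.algebraMap_eq]
  have hdom : algebraMap G L x ∈ p.map (algebraMap R L) ∨ algebraMap G L y ∈ p.map (algebraMap R L) := by
    have hxy' : algebraMap G L (x * y) ∈ p.map (algebraMap R L) := hJ ▸ Ideal.mem_map_of_mem _ hxy
    have hP : (p.map (algebraMap R L)).IsPrime := by
      have h4 : IsDomain (EGA4.FibLocRing R G' (F.asIdeal.comap Algebra.TensorProduct.includeRight)) := inferInstance
      rw [← Ideal.Quotient.isDomain_iff_prime]
      revert h4
      have key : ∀ (q₂ : Ideal G') [q₂.IsPrime], q₂ = q' → IsDomain (EGA4.FibLocRing R G' q₂) →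
          IsDomain (L ⧸ p.map (algebraMap R L)) := by
        intro q₂ _ h h4
        subst h
        exact (Ideal.quotEquivOfEq (show p.map (algebraMap R L) =
          (q'.comap (algebraMap R G')).map (algebraMap R L) by rw [hq'p])).toMulEquiv.isDomain
      exact fun h4 => key _ hFq h4
    rw [map_mul] at hxy'
    exact hP.mem_or_mem hxy'
  rcases hdom with h | h
  · obtain ⟨s, hs, hsx⟩ := hcase x (hJ ▸ h)
    exact ⟨s, hs, .inl hsx⟩
  · obtain ⟨s, hs, hsy⟩ := hcase y (hJ ▸ h)
    exact ⟨s, hs, .inr hsy⟩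

/-- The branch of the node through the `i`-th axis, over `R ⧸ p`. -/
theorem exists_branch {R : Type u} [CommRing R] [IsLocalRing R] [IsNoetherianRing R]
    [IsAdicComplete (maximalIdeal R) R] (p : Ideal R) [p.IsPrime] (a : R) (ha : a ∈ p) :
    ∃ (ε : DualGr.nodeRing R a →+* R ⧸ p)
      (χ : Fin 2 → (DualGr.nodeRing R a →+* MvPowerSeries (Fin 1) (R ⧸ p))),
      (∀ r, ε (Ideal.Quotient.mk _ (MvPowerSeries.C (algebraMap R (Curv2.cpl R) r))) = Ideal.Quotient.mk p r) ∧
      (∀ i z, MvPowerSeries.constantCoeff (χ i z) = ε z) ∧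
      (∀ i r, χ i (Ideal.Quotient.mk _ (MvPowerSeries.C (algebraMap R (Curv2.cpl R) r))) =
        MvPowerSeries.C (Ideal.Quotient.mk p r)) ∧
      ∀ i, χ i (Ideal.Quotient.mk _ (MvPowerSeries.X i)) = MvPowerSeries.X 0 := by
  classical
  let π : Curv2.cpl R →+* R ⧸ p := (Ideal.Quotient.mk p).comp
    (RingEquiv.ofBijective (algebraMap R (Curv2.cpl R)) (AdicCompletion.of_bijective _ _)).symm.toRingHom
  have hπ : ∀ r, π (algebraMap R (Curv2.cpl R) r) = Ideal.Quotient.mk p r := fun r =>
    congrArg (Ideal.Quotient.mk p)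
      ((RingEquiv.ofBijective (algebraMap R (Curv2.cpl R)) (AdicCompletion.of_bijective _ _)).symm_apply_apply r)
  let emb : Fin 2 → (Fin 1 ↪ Fin 2) := fun i => ⟨fun _ => i, fun a b _ => Subsingleton.elim a b⟩
  let f : Fin 2 → (MvPowerSeries (Fin 2) (Curv2.cpl R) →+* MvPowerSeries (Fin 1) (R ⧸ p)) := fun i =>
    (MvPowerSeries.map π).comp (MvPowerSeries.killCompl (R := Curv2.cpl R) (emb i)).toRingHom
  have hC : ∀ i c, f i (MvPowerSeries.C c) = MvPowerSeries.C (π c) := fun i c => by simp [f]
  have hX : ∀ i, f i (MvPowerSeries.X i) = MvPowerSeries.X 0 := fun i => by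
    show MvPowerSeries.map π (MvPowerSeries.killCompl (emb i) (MvPowerSeries.X ((emb i) 0))) = _
    rw [MvPowerSeries.killCompl_X, MvPowerSeries.map_X]
  have hne : ∀ i j, j ≠ i → f i (MvPowerSeries.X j) = 0 := fun i j h => by
    show MvPowerSeries.map π (MvPowerSeries.killCompl (emb i) (MvPowerSeries.X j)) = _
    rw [MvPowerSeries.killCompl_X_eq_zero (by rintro ⟨_, rfl⟩; exact h rfl), map_zero]
  have hker : ∀ i, ∀ z ∈ Ideal.span {(MvPowerSeries.X 0 * MvPowerSeries.X 1 -
      MvPowerSeries.C (algebraMap R (Curv2.cpl R) a) : MvPowerSeries (Fin 2) (Curv2.cpl R))}, f i z = 0 := by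
    intro i z hz
    obtain ⟨w, rfl⟩ := Ideal.mem_span_singleton'.1 hz
    rw [map_mul, map_sub, map_mul, hC, hπ, Ideal.Quotient.eq_zero_iff_mem.2 ha, map_zero, sub_zero]
    fin_cases i
    · rw [hne _ 1 (by decide)]; simp
    · rw [hne _ 0 (by decide)]; simp
  let χ : Fin 2 → (DualGr.nodeRing R a →+* MvPowerSeries (Fin 1) (R ⧸ p)) :=
    fun i => Ideal.Quotient.lift _ (f i) (hker i)
  have hcc : ∀ i z, MvPowerSeries.constantCoeff (f i z) = π (MvPowerSeries.constantCoeff z) := fun i z => by
    show MvPowerSeries.constantCoeff (MvPowerSeries.map π (MvPowerSeries.killCompl (emb i) z)) = _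
    rw [MvPowerSeries.constantCoeff_map, ← MvPowerSeries.coeff_zero_eq_constantCoeff_apply,
      MvPowerSeries.coeff_killCompl, Finsupp.embDomain_zero, MvPowerSeries.coeff_zero_eq_constantCoeff_apply]
  refine ⟨MvPowerSeries.constantCoeff.comp (χ 0), χ, fun r => ?_, fun i z => ?_, fun i r => ?_, fun i => hX i⟩
  · show MvPowerSeries.constantCoeff (f 0 _) = _
    rw [hC, MvPowerSeries.constantCoeff_C, hπ]
  · obtain ⟨z, rfl⟩ := Ideal.Quotient.mk_surjective z
    exact (hcc i z).trans (hcc 0 z).symm
  · show f i _ = _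
    rw [hC, hπ]

/-- The algebraic core. -/
theorem notMem_of_node {R B A : Type u} [CommRing R] [IsLocalRing R] [IsNoetherianRing R]
    [IsAdicComplete (maximalIdeal R) R] [CommRing B] [Algebra R B] [Algebra.FiniteType R B]
    [CommRing A] [IsLocalRing A] [Algebra B A] [Algebra R A] [IsScalarTower R B A]
    (Q : Ideal B) [Q.IsPrime] [IsLocalization.AtPrime A Q] (a : R)
    (hnode : DualGr.IsThickNode (algebraMap R A) a) (p : Ideal R) [p.IsPrime]
    (hsm : ∀ P : Ideal B, P.IsPrime → P.comap (algebraMap R B) = p →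
      ∃ g ∉ P, ∃ (Bg : Type u) (_ : CommRing Bg) (_ : Algebra B Bg) (_ : Algebra R Bg),
        IsLocalization.Away g Bg ∧ IsScalarTower R B Bg ∧ Algebra.Smooth R Bg) :
    a ∉ p := by
  intro ha
  obtain ⟨e, he⟩ := hnode
  obtain ⟨ε, χ, hεC, hε, hχC, hχX⟩ := exists_branch p a ha
  let G := EGA4.Cpl A
  let q : Ideal G := RingHom.ker (ε.comp e.toRingHom)
  haveI : q.IsPrime := RingHom.ker_isPrime _
  have hmap : ∀ r, e (algebraMap R G r) =
      Ideal.Quotient.mk _ (MvPowerSeries.C (algebraMap R (Curv2.cpl R) r)) := fun r => by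
    rw [← he r, IsScalarTower.algebraMap_apply R A G]
  have hq : q.comap (algebraMap R G) = p := by
    ext r
    rw [Ideal.mem_comap, RingHom.mem_ker]
    show ε (e (algebraMap R G r)) = 0 ↔ _
    rw [hmap, hεC, Ideal.Quotient.eq_zero_iff_mem]
  let P : Ideal B := q.comap ((algebraMap A G).comp (algebraMap B A))
  have hP : P.comap (algebraMap R B) = p := by
    rw [Ideal.comap_comap, RingHom.comp_assoc, ← IsScalarTower.algebraMap_eq R B A,
      ← IsScalarTower.algebraMap_eq R A G, hq]
  obtain ⟨g, hg, Bg, _, _, _, _, _, _⟩ := hsm P inferInstance hP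
  let xx : G := e.symm (Ideal.Quotient.mk _ (MvPowerSeries.X 0))
  let yy : G := e.symm (Ideal.Quotient.mk _ (MvPowerSeries.X 1))
  have hxy : xx * yy = algebraMap R G a := by
    refine e.injective ?_
    rw [map_mul, RingEquiv.apply_symm_apply, RingEquiv.apply_symm_apply, hmap, ← map_mul, Ideal.Quotient.eq]
    exact Ideal.subset_span rfl
  obtain ⟨s, hs, hsz⟩ := exists_mul_mem Q p q hq g hg Bg xx yy (hxy ▸ Ideal.mem_map_of_mem _ ha)
  have key : ∀ i : Fin 2, s * e.symm (Ideal.Quotient.mk _ (MvPowerSeries.X i)) ∈ p.map (algebraMap R G) → False := by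
    intro i hi
    have h0 : p.map (algebraMap R G) ≤ RingHom.ker ((χ i).comp e.toRingHom) :=
      Ideal.map_le_iff_le_comap.2 fun r hr => by
        rw [Ideal.mem_comap, RingHom.mem_ker]
        show χ i (e (algebraMap R G r)) = 0
        rw [hmap, hχC, Ideal.Quotient.eq_zero_iff_mem.2 hr, map_zero]
    have h1 := RingHom.mem_ker.1 (h0 hi)
    change χ i (e (s * _)) = 0 at h1
    rw [map_mul, map_mul, RingEquiv.apply_symm_apply, hχX] at h1
    have hXne : (MvPowerSeries.X 0 : MvPowerSeries (Fin 1) (R ⧸ p)) ≠ 0 := fun h => by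
      have := congrArg (MvPowerSeries.coeff (Finsupp.single (0 : Fin 1) 1)) h
      simp [MvPowerSeries.coeff_X] at this
    rcases mul_eq_zero.1 h1 with h2 | h2
    · refine hs ?_
      show ε (e s) = 0
      rw [← hε i, h2, map_zero]
    · exact hXne h2
  rcases hsz with h | h
  exacts [key 0 h, key 1 h]

end Groth.Agent.NodeNZD6
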